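import Groth.Agent.NCDLiftLib.Chart
import Mathlib.RingTheory.Etale.Kaehler
import Mathlib.RingTheory.RingHom.Etale
import Mathlib.RingTheory.Kaehler.Polynomial

/-!
# Differentials of the coordinates of an étale chart
-/

set_option autoImplicit false
set_option backward.isDefEq.respectTransparency false
set_option backward.isDefEq.respectTransparency.types false
set_option linter.style.haveILetI false

universe u

open CategoryTheory CategoryTheory.Limits AlgebraicGeometry TopologicalSpace

noncomputable section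

namespace Groth.Agent.LogBasisLib

variable {X S : Scheme.{u}} (f : X ⟶ S)

/-- The ring map of an étale chart on affine opens is étale. -/
theorem exists_coord_etale (W : X.Opens) {ι : Type u} (v : ι → Γ(W, ⊤))
    [Etale (AffineSpace.homOfVector (W.ι ≫ f) v)] (U : X.affineOpens) (h : U.1 ≤ W) (V : S.affineOpens)
    (e : U.1 ≤ f ⁻¹ᵁ V.1) :
    ∃ ψ : MvPolynomial ι Γ(S, V.1) →+* Γ(X, U.1), ψ.Etale ∧ ψ.comp MvPolynomial.C = (f.appLE V.1 U.1 e).hom ∧
      ∀ i, ψ (MvPolynomial.X i) = LogNCD.sectOn W h (v i) := by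
  haveI : IsAffine (U.1 : Scheme.{u}) := U.2
  haveI : IsAffine (V.1 : Scheme.{u}) := V.2
  let w : ι → Γ(X, U.1) := fun i => LogNCD.sectOn W h (v i)
  let ψ := MvPolynomial.eval₂Hom (f.appLE V.1 U.1 e).hom w
  refine ⟨ψ, ?_, MvPolynomial.eval₂Hom_comp_C _ _, fun i => MvPolynomial.eval₂Hom_X' _ _ _⟩
  let Φ := AffineSpace.homOfVector (f.resLE V.1 U.1 e) (fun i => U.1.topIso.inv (w i))
  haveI : IsOpenImmersion (AffineSpace.map ι V.1.ι) :=
    MorphismProperty.of_isPullback (P := @IsOpenImmersion) (AffineSpace.isPullback_map _).flip inferInstance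
  have hΦ : Φ ≫ AffineSpace.map ι V.1.ι = X.homOfLE h ≫ AffineSpace.homOfVector (W.ι ≫ f) v := by
    apply AffineSpace.hom_ext
    · simp only [Category.assoc, Φ, AffineSpace.map_over, AffineSpace.homOfVector_over_assoc,
        AffineSpace.homOfVector_over, Scheme.Hom.resLE_comp_ι, Scheme.homOfLE_ι_assoc]
    · intro i
      rw [Scheme.Hom.comp_appTop, CommRingCat.comp_apply, AffineSpace.map_appTop_coord,
        AffineSpace.homOfVector_appTop_coord, Scheme.Hom.comp_appTop, CommRingCat.comp_apply,
        AffineSpace.homOfVector_appTop_coord]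
      show U.1.topIso.inv (LogNCD.sectOn W h (v i)) = (X.homOfLE h).appTop (v i)
      simp only [LogNCD.sectOn_apply, Scheme.homOfLE_appTop, Scheme.Opens.topIso_hom, Scheme.Opens.topIso_inv]
      simp only [← CommRingCat.comp_apply, ← Functor.map_comp]
      rfl
  haveI : Etale (Φ ≫ AffineSpace.map ι V.1.ι) := hΦ ▸ inferInstance
  haveI : Etale Φ := Etale.of_comp _ (AffineSpace.map ι V.1.ι)
  let q := CommRingCat.ofHom ψ
  let μ : MvPolynomial ι Γ(V.1, ⊤) →+* MvPolynomial ι Γ(S, V.1) := MvPolynomial.map V.1.topIso.hom.hom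
  have hkey : Φ ≫ (AffineSpace.isoOfIsAffine ι V.1.toScheme).hom =
      U.2.isoSpec.hom ≫ Spec.map (CommRingCat.ofHom μ ≫ q) := by
    rw [AffineSpace.isoOfIsAffine_hom, Scheme.toSpecΓ_naturality_assoc, ← Spec.map_comp]
    rw [IsAffineOpen.isoSpec_hom, Scheme.Opens.toSpecΓ, Category.assoc, ← Spec.map_comp]
    congr 2
    refine CommRingCat.hom_ext (MvPolynomial.ringHom_ext (fun a => ?_) (fun j => ?_))
    · simp only [CommRingCat.hom_comp, RingHom.comp_apply, CommRingCat.hom_ofHom, MvPolynomial.eval₂Hom_C, μ, q, ψ, MvPolynomial.map_C]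
      rw [← CommRingCat.comp_apply, ← Scheme.Hom.comp_appTop, AffineSpace.homOfVector_over]
      show (f.resLE V.1 U.1 e).app ⊤ a = _
      rw [Scheme.Hom.resLE_app_top]
      rfl
    · simp only [CommRingCat.hom_comp, RingHom.comp_apply, CommRingCat.hom_ofHom, MvPolynomial.eval₂Hom_X', μ, q, ψ, MvPolynomial.map_X]
      exact AffineSpace.homOfVector_appTop_coord _ _ _
  have h1 : Etale (Φ ≫ (AffineSpace.isoOfIsAffine ι V.1.toScheme).hom) := inferInstance
  rw [hkey, MorphismProperty.cancel_left_of_respectsIso (P := @Etale), HasRingHomProperty.Spec_iff (P := @Etale)] at h1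
  have hμ : Function.Bijective μ :=
    ⟨MvPolynomial.map_injective _ (ConcreteCategory.bijective_of_isIso V.1.topIso.hom).1,
      MvPolynomial.map_surjective _ (ConcreteCategory.bijective_of_isIso V.1.topIso.hom).2⟩
  have h2 : (ψ.comp μ).Etale := h1
  let m := ((RingEquiv.ofBijective μ hμ).symm : MvPolynomial ι Γ(S, V.1) →+* MvPolynomial ι Γ(V.1, ⊤))
  have hm : m.Etale := RingHom.Etale.of_bijective (RingEquiv.ofBijective μ hμ).symm.bijective
  have h3 := RingHom.Etale.stableUnderComposition m (ψ.comp μ) hm h2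
  have e2 : (ψ.comp μ).comp ((RingEquiv.ofBijective μ hμ).symm : _ →+* _) = ψ :=
    RingHom.ext fun x => congrArg ψ ((RingEquiv.ofBijective μ hμ).apply_symm_apply x)
  rwa [e2] at h3

/-- The differentials of étale coordinates form a basis. -/
theorem exists_basis_D {A B : Type u} [CommRing A] [CommRing B] [Algebra A B] {ι : Type u}
    (ψ : MvPolynomial ι A →+* B) (hψ : ψ.Etale) (hC : ψ.comp MvPolynomial.C = algebraMap A B) :
    ∃ b : Module.Basis ι B Ω[B⁄A], ∀ i, b i = KaehlerDifferential.D A B (ψ (MvPolynomial.X i)) := by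
  letI := ψ.toAlgebra
  haveI : IsScalarTower A (MvPolynomial ι A) B := IsScalarTower.of_algebraMap_eq fun a => by
    rw [← hC]; rfl
  haveI : Algebra.Etale (MvPolynomial ι A) B := hψ
  refine ⟨((KaehlerDifferential.mvPolynomialBasis A ι).baseChange B).map
    (KaehlerDifferential.tensorKaehlerEquivOfFormallyEtale A (MvPolynomial ι A) B), fun i => ?_⟩
  rw [Module.Basis.map_apply, Module.Basis.baseChange_apply, KaehlerDifferential.mvPolynomialBasis_apply,
    KaehlerDifferential.tensorKaehlerEquivOfFormallyEtale_apply, KaehlerDifferential.mapBaseChange_tmul, one_smul,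
    KaehlerDifferential.map_D]
  rfl

end Groth.Agent.LogBasisLib
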